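import Groth.Agent.DimFormulaLib.Equidim
import Groth.Agent.ASp.DecentTop
import Groth.Agent.ASp.TrdegChart
import Groth.Agent.S9128
import Groth.Agent.S10339
import Groth.Prelude.Def_W4stk3decentspacesp2Birat

/-! The space of points of a decent space locally of finite type over a universally catenary scheme. -/

set_option autoImplicit false
set_option backward.isDefEq.respectTransparency false

universe u

open CategoryTheory CategoryTheory.Limits AlgebraicGeometry Order
open AlgSp

namespace Groth.Agent.CatPts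

open Groth.Agent.DimFormulaLib

/-- In a catenary situation saturated chains below a prime have length the relative height. -/
theorem relHeight_of_saturated {C : Type u} [CommRing C] [IsNoetherianRing C] (q : PrimeSpectrum C)
    (hq : CAlg.IsCatenary (Localization.AtPrime q.asIdeal)) (P : ℕ → PrimeSpectrum C) (h0 : P 0 = q) :
    ∀ n, (∀ i < n, P (i + 1) ⋖ P i) → relHeight (P n) q = n := by
  intro n
  induction n with
  | zero =>
    intro _
    rw [h0]
    change (q.asIdeal.map (Ideal.Quotient.mk q.asIdeal)).height = _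
    rw [Ideal.map_quotient_self, Ideal.height_bot]
    rfl
  | succ n ih =>
    intro h
    have hle : ∀ i ≤ n + 1, P i ≤ q := by
      intro i hi
      induction i with
      | zero => exact h0.le
      | succ i ih2 => exact (h i (by omega)).le.trans (ih2 (by omega))
    obtain ⟨Φ, hΦ, hdim⟩ := exists_atPrime_emb q (Localization.AtPrime q.asIdeal)
    obtain ⟨z, hz⟩ : P (n + 1) ∈ Set.range Φ := hΦ ▸ hle (n + 1) le_rfl
    obtain ⟨z', hz'⟩ : P n ∈ Set.range Φ := hΦ ▸ hle n (by omega)
    have hlt : P (n + 1) < P n := (h n (by omega)).lt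
    have hcov : z ⋖ z' := by
      refine ⟨Φ.lt_iff_lt.1 (by rw [hz, hz']; exact hlt), fun w h1 h2 => (h n (by omega)).2 (c := Φ w) ?_ ?_⟩
      · rw [← hz]; exact Φ.lt_iff_lt.2 h1
      · rw [← hz']; exact Φ.lt_iff_lt.2 h2
    have e := ((S9128.result _).1 hq z z' hcov.lt).2 hcov
    rw [hdim, hdim, hz, hz', ih fun i hi => h i (by omega)] at e
    exact_mod_cast e

variable {S : Scheme.{u}}

open Groth.Agent.ASp

theorem isCatenary_points [IsLocallyNoetherian S]
    (hS : ∀ s : ↥S, CAlg.IsUniversallyCatenary ↥(S.presheaf.stalk s)) (X : AlgSp.Space S)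
    (hX : AlgSp.IsDecent X.obj) (p : X.obj ⟶ (AlgSp.yon S).obj (Over.mk (𝟙 S)))
    (hp : AlgSp.LocP @LocallyOfFiniteType p) :
    W4stk3decentspacesp2.IsCatenarySpace (AlgSp.Points X.obj) := by
  haveI := t0Space_of_isDecent X.property hX
  haveI := S10339.result X hX
  let γ : TopologicalSpace.IrreducibleCloseds (Points X.obj) → Points X.obj := fun T => T.2.genericPoint
  have hγ : ∀ T, closure {γ T} = (T : Set (Points X.obj)) := fun T => by
    rw [T.2.genericPoint_closure_eq, T.3.closure_eq]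
    rfl
  have hle : ∀ T T', T ≤ T' ↔ γ T' ⤳ γ T := fun T T' => by
    rw [specializes_iff_closure_subset, hγ, hγ]
    rfl
  have hlt : ∀ T T', T < T' → γ T' ⤳ γ T ∧ γ T' ≠ γ T := fun T T' h => ⟨(hle T T').1 h.le, fun e =>
    h.ne (le_antisymm h.le ((hle T' T).2 (specializes_rfl.trans (specializes_of_eq e.symm))))⟩
  have hsurj : ∀ z : Points X.obj, ∃ T, γ T = z := fun z =>
    ⟨⟨closure {z}, isIrreducible_singleton.closure, isClosed_closure⟩,
      (isIrreducible_singleton.closure.isGenericPoint_genericPoint_closure.eq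
        (by rw [closure_closure]; exact isGenericPoint_closure))⟩
  intro T T' _
  -- a chart and a prime over the special point
  obtain ⟨U, a, ha, has⟩ := X.property.atlas
  obtain ⟨h, hh⟩ := (AlgSp.yon S).map_surjective (a ≫ p)
  have hid : RepWith @Etale (𝟙 ((AlgSp.yon S).obj (Over.mk (𝟙 S)))) := repWith_id _ _
  haveI : LocallyOfFiniteType h.left := hp a _ h ha hid (by rw [Category.comp_id, hh])
  obtain ⟨u, hu⟩ := surjective_ofPt has (γ T)
  obtain ⟨c⟩ := exists_chart h.left u
  haveI : IsLocallyNoetherian (Over.mk (𝟙 S) : Over S).left := (inferInstance : IsLocallyNoetherian S)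
  haveI := c.isNoetherianRing
  haveI : IsNoetherianRing c.B := Algebra.FiniteType.isNoetherianRing c.A c.B
  let φ : PrimeSpectrum c.B → Points X.obj := fun P => Points.ofPt a (c.j P)
  have hφ0 : φ c.q = γ T := by change Points.ofPt a (c.j c.q) = _; rw [c.hq, hu]
  have hmono : ∀ {P Q : PrimeSpectrum c.B}, P ≤ Q → φ P ⤳ φ Q := fun h =>
    (((PrimeSpectrum.le_iff_specializes _ _).1 h).map c.j.isOpenEmbedding.continuous).map (Points.continuous_ofPt a)
  have hlift : ∀ (Q : PrimeSpectrum c.B) (y : Points X.obj), ∃ P,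
      Q ≤ c.q → y ⤳ φ Q → P ≤ Q ∧ φ P = y := by
    intro Q y
    by_cases h : Q ≤ c.q ∧ y ⤳ φ Q
    · obtain ⟨w, hw, hwy⟩ := exists_specializes_lift hX ha h.2
      obtain ⟨P, -, hP⟩ := c.exists_le (hw.trans (c.specializes h.1))
      refine ⟨P, fun _ _ => ⟨(PrimeSpectrum.le_iff_specializes _ _).2
        (c.j.isOpenEmbedding.isInducing.specializes_iff.1 (hP ▸ hw)), ?_⟩⟩
      change Points.ofPt a (c.j P) = y
      rw [hP, hwy]
    · exact ⟨Q, fun h1 h2 => absurd ⟨h1, h2⟩ h⟩
  choose L hL using hlift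
  have hinj : ∀ {P Q : PrimeSpectrum c.B}, P ≤ Q → φ P = φ Q → P = Q := fun h e =>
    c.j.isOpenEmbedding.injective (eq_of_specializes hX ha e.symm
      (((PrimeSpectrum.le_iff_specializes _ _).1 h).map c.j.isOpenEmbedding.continuous)).symm
  -- lifts of a chain
  have key : ∀ s : LTSeries (TopologicalSpace.IrreducibleCloseds (Points X.obj)), s.head = T →
      ∃ P : ℕ → PrimeSpectrum c.B, P 0 = c.q ∧
        (∀ i : ℕ, i ≤ s.length → φ (P i) = γ (s (Fin.ofNat (s.length + 1) i)) ∧ P i ≤ c.q) ∧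
        ∀ i : ℕ, i < s.length → P (i + 1) < P i := by
    intro s hs
    let z : ℕ → Points X.obj := fun i => γ (s (Fin.ofNat (s.length + 1) i))
    let P : ℕ → PrimeSpectrum c.B := fun i => Nat.rec c.q (fun i Q => L Q (z (i + 1))) i
    have hz : ∀ i < s.length, z (i + 1) ⤳ z i ∧ z (i + 1) ≠ z i := fun i hi => by
      have e1 : Fin.ofNat (s.length + 1) i = (⟨i, hi⟩ : Fin s.length).castSucc :=
        Fin.ext (Nat.mod_eq_of_lt (by omega))
      have e2 : Fin.ofNat (s.length + 1) (i + 1) = (⟨i, hi⟩ : Fin s.length).succ :=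
        Fin.ext (Nat.mod_eq_of_lt (by omega))
      simp only [z, e1, e2]
      exact hlt _ _ (s.step ⟨i, hi⟩)
    have hP : ∀ i ≤ s.length, φ (P i) = z i ∧ P i ≤ c.q := by
      intro i
      induction i with
      | zero =>
        refine fun _ => ⟨?_, le_rfl⟩
        change φ c.q = γ (s _)
        rw [hφ0, ← hs]

      | succ i ih =>
        intro hi
        obtain ⟨h1, h2⟩ := ih (by omega)
        obtain ⟨h3, h4⟩ := hL (P i) (z (i + 1)) h2 (h1 ▸ (hz i hi).1)
        exact ⟨h4, h3.trans h2⟩
    refine ⟨P, rfl, hP, fun i hi => ?_⟩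
    obtain ⟨h1, h2⟩ := hP i hi.le
    obtain ⟨h3, h4⟩ := hL (P i) (z (i + 1)) h2 (h1 ▸ (hz i hi).1)
    exact lt_of_le_of_ne h3 fun e => (hz i hi).2 (h4.symm.trans ((congrArg φ e).trans h1))
  obtain ⟨N, hN⟩ := ENat.ne_top_iff_exists.mp (Ideal.height_ne_top (I := c.q.asIdeal) c.q.isPrime.ne_top)
  refine ⟨⟨N, fun s hs _ => ?_⟩, fun s t hs hs' ht ht' hss hts => ?_⟩
  · obtain ⟨P, hP0, hP, hPlt⟩ := key s hs
    let r : LTSeries (PrimeSpectrum c.B) := ⟨s.length, fun i => P (s.length - i), fun i => by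
      have hi := i.2
      have := hPlt (s.length - (i + 1 : ℕ)) (by omega)
      rw [show s.length - (i + 1 : ℕ) + 1 = s.length - i by omega] at this
      simpa using this⟩
    have hr := Order.length_le_height (p := r) (x := c.q) (by
      change P (s.length - (Fin.last s.length : ℕ)) ≤ c.q
      simp [hP0])
    rw [← PrimeSpectrum.height_eq_orderHeight, ← hN] at hr
    exact_mod_cast hr
  · have hlen : ∀ (s : LTSeries (TopologicalSpace.IrreducibleCloseds (Points X.obj))), s.head = T →
        (∀ i : Fin s.length, s.toFun i.castSucc ⋖ s.toFun i.succ) →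
        ∃ P : PrimeSpectrum c.B, P ≤ c.q ∧ φ P = γ s.last ∧ relHeight P c.q = s.length := by
      intro s hs hss
      obtain ⟨P, hP0, hP, hPlt⟩ := key s hs
      refine ⟨P s.length, (hP _ le_rfl).2, ?_, relHeight_of_saturated c.q
        ((c.catAbove (hS _)) c.B c.q.asIdeal rfl) P hP0 s.length fun i hi => ⟨hPlt i hi, fun R h1 h2 => ?_⟩⟩
      · rw [(hP _ le_rfl).1]
        congr 2
        exact Fin.ext (Nat.mod_eq_of_lt (by omega))
      · obtain ⟨R', hR'⟩ := hsurj (φ R)
        have e1 : Fin.ofNat (s.length + 1) i = (⟨i, hi⟩ : Fin s.length).castSucc :=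
          Fin.ext (Nat.mod_eq_of_lt (by omega))
        have e2 : Fin.ofNat (s.length + 1) (i + 1) = (⟨i, hi⟩ : Fin s.length).succ :=
          Fin.ext (Nat.mod_eq_of_lt (by omega))
        have f1 := (hP i hi.le).1
        have f2 := (hP (i + 1) hi).1
        rw [e1] at f1
        rw [e2] at f2
        refine (hss ⟨i, hi⟩).2 (c := R') (lt_of_le_of_ne ((hle _ _).2 ?_) fun e => ?_)
          (lt_of_le_of_ne ((hle _ _).2 ?_) fun e => ?_)
        · rw [hR']; exact f1 ▸ hmono h2.le
        · exact h2.ne (hinj h2.le (hR'.symm.trans ((congrArg γ e).symm.trans f1.symm)))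
        · rw [hR']; exact f2 ▸ hmono h1.le
        · exact h1.ne (hinj h1.le (f2.trans ((congrArg γ e).symm.trans hR')))
    obtain ⟨P, hPq, hPx, hPh⟩ := hlen s hs hss
    obtain ⟨Q, hQq, hQx, hQh⟩ := hlen t ht hts
    have hPQ : φ P = φ Q := by rw [hPx, hQx, hs', ht']
    have htr : resTrdegAt h.left (c.j P) = resTrdegAt h.left (c.j Q) :=
      resTrdeg_eq_of_charts ha hid (by rw [Category.comp_id, hh]) ha hid (by rw [Category.comp_id, hh]) hPQ
    have hbase : PrimeSpectrum.comap (algebraMap c.A c.B) P = PrimeSpectrum.comap (algebraMap c.A c.B) Q := by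
      apply c.i.isOpenEmbedding.injective
      rw [← c.apply_j, ← c.apply_j]
      have := congrArg (Points.map p) hPQ
      simp only [φ, Points.map_ofPt, ← hh] at this
      rw [← Category.comp_id ((AlgSp.yon S).map h), ofPt_yon_map_comp, ofPt_yon_map_comp] at this
      exact (Points.schemeHomeo _).injective this
    obtain ⟨tP, htP⟩ := exists_nat_trdeg_quotient_pair (A := c.A) P
    obtain ⟨tQ, htQ⟩ := exists_nat_trdeg_quotient_pair (A := c.A) Q
    obtain ⟨t₀, ht₀⟩ := exists_nat_trdeg_quotient_pair (A := c.A) c.q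
    obtain ⟨a₁, b₁, ha₁, hb₁, -, h₁⟩ := formula_component hPq tP t₀ htP ht₀
    obtain ⟨a₂, b₂, ha₂, hb₂, -, h₂⟩ := formula_component hQq tQ t₀ htQ ht₀
    have hc := c.catAbove (hS _)
    have e1 := h₁ hc
    have e2 := h₂ hc
    rw [c.resTrdegAt_eq, c.resTrdegAt_eq, htP, htQ] at htr
    have e3 : tP = tQ := by exact_mod_cast htr
    rw [hbase, hb₂] at hb₁
    have e4 : b₂ = b₁ := by exact_mod_cast hb₁
    rw [ha₁] at hPh
    rw [ha₂] at hQh
    have e5 : a₁ = s.length := by exact_mod_cast hPh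
    have e6 : a₂ = t.length := by exact_mod_cast hQh
    omega

end Groth.Agent.CatPts
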